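import Cfsg.Agent.H153.Dl.RFi24

/-!
# An element of order 27 in `Fi24` : the words (helper153)

Generated data.
-/

set_option autoImplicit false
set_option maxRecDepth 100000
set_option Elab.async false

namespace Cfsg.Agent.H153.Dl.B24

open Cfsg Cfsg.Agent.Lib.PermNetPt Cfsg.Agent.H153.Dl Cfsg.Agent.H153.Dl.PR
open Cfsg.Spor.Fi24 (Gen)

def xw : List Gen := [.b, .f, .k, .g, .c, .l, .j, .a, .i, .b, .d, .k, .e, .d, .h, .c, .d, .a]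

def y0a : List Gen := [.d, .e, .c, .d, .h, .i, .f, .e, .b, .c, .d, .h, .g, .f, .e, .d, .c, .b, .a, .k, .i, .d, .h, .j, .g, .e, .f, .c, .d, .e, .b, .c, .d, .h, .i, .f, .c, .d, .e, .b, .c, .d, .h, .j, .g, .f, .e, .d, .c, .b, .a, .l, .i, .f, .d, .e, .c, .d, .h, .g, .j, .f, .g, .e, .f, .c, .d, .e, .b, .c, .d, .h, .i, .d, .h, .j, .g, .e, .f, .d, .e, .c, .d, .h, .e, .f, .g, .j, .b, .c, .d, .e, .f, .g, .e, .b, .c, .d, .h, .i, .d, .h, .e, .f, .c, .d, .e, .b, .c, .d, .h, .f, .c, .d, .i, .k]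

def y0b : List Gen := [.k, .i, .d, .c, .f, .h, .d, .c, .b, .e, .d, .c, .f, .e, .h, .d, .i, .h, .d, .c, .b, .e, .g, .f, .e, .d, .c, .b, .j, .g, .f, .e, .h, .d, .c, .e, .d, .f, .e, .g, .j, .h, .d, .i, .h, .d, .c, .b, .e, .d, .c, .f, .e, .g, .f, .j, .g, .h, .d, .c, .e, .d, .f, .i, .l, .a, .b, .c, .d, .e, .f, .g, .j, .h, .d, .c, .b, .e, .d, .c, .f, .i, .h, .d, .c, .b, .e, .d, .c, .f, .e, .g, .j, .h, .d, .i, .k, .a, .b, .c, .d, .e, .f, .g, .h, .d, .c, .b, .e, .f, .i, .h, .d, .c, .e, .d]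

def u : List Gen := []

end Cfsg.Agent.H153.Dl.B24
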